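import Groth.Agent.Push83.ResLen
import Groth.Agent.QCoh.Stalk
import Groth.Prelude.Def_Coh
import Mathlib.Topology.Sheaves.SheafCondition.UniqueGluing

/-! The stalk of a push-forward along a closed map at a point with finite, separated fibre of the support. -/

set_option autoImplicit false
set_option linter.style.haveILetI false

universe u

open AlgebraicGeometry CategoryTheory TopologicalSpace Opposite

namespace Groth.Agent.Push83

open Groth.Agent

variable {X Y : Scheme.{u}} (f : X ⟶ Y) (M : X.Modules)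

/-- The natural map from the stalk of the push-forward. -/
noncomputable def fibHom {x : X} {y : Y} (h : f x = y) :
    ((Coh.push f).obj M).presheaf.stalk y →+ M.presheaf.stalk x :=
  (((Coh.push f).obj M).presheaf.stalkSpecializes (specializes_of_eq h) ≫
    TopCat.Presheaf.stalkPushforward Ab.{u} f.base M.presheaf x).hom

theorem fibHom_germ {x : X} {y : Y} (h : f x = y) (V : Y.Opens) (hy : y ∈ V) (v : Γ(M, f ⁻¹ᵁ V)) :
    fibHom f M h (((Coh.push f).obj M).presheaf.germ V y hy v) =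
      M.presheaf.germ (f ⁻¹ᵁ V) x (show f x ∈ V from h ▸ hy) v := by
  show TopCat.Presheaf.stalkPushforward Ab.{u} f.base M.presheaf x
    (((Coh.push f).obj M).presheaf.stalkSpecializes _ (((Coh.push f).obj M).presheaf.germ V y hy v)) = _
  rw [TopCat.Presheaf.germ_stalkSpecializes_apply]
  exact congrArg (fun φ => φ v) (TopCat.Presheaf.stalkPushforward_germ Ab.{u} f.base M.presheaf V x _)

theorem fibHom_smul {x : X} {y : Y} (h : f x = y) (a : Y.presheaf.stalk y)
    (m : ((Coh.push f).obj M).presheaf.stalk y) : fibHom f M h (a • m) = fibMap f h a • fibHom f M h m := by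
  obtain ⟨U, hU, b, rfl⟩ := Y.presheaf.exists_germ_eq (x := y) a
  obtain ⟨V, hV, v, rfl⟩ := ((Coh.push f).obj M).presheaf.germ_exist m
  have hW : y ∈ U ⊓ V := ⟨hU, hV⟩
  rw [← Y.presheaf.germ_res_apply (homOfLE inf_le_left : U ⊓ V ⟶ U) y hW b,
    ← ((Coh.push f).obj M).presheaf.germ_res_apply (homOfLE inf_le_right : U ⊓ V ⟶ V) y hW v]
  generalize Y.presheaf.map (homOfLE inf_le_left : U ⊓ V ⟶ U).op b = b'
  generalize ((Coh.push f).obj M).presheaf.map (homOfLE inf_le_right : U ⊓ V ⟶ V).op v = v'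
  rw [← QCoh.germ_smul' ((Coh.push f).obj M) hW, fibHom_germ, fibHom_germ]
  refine (QCoh.germ_smul' M (show x ∈ f ⁻¹ᵁ (U ⊓ V) from show f x ∈ U ⊓ V from h ▸ hW) (f.app _ b') v').trans ?_
  refine congrArg (fun t => t • M.presheaf.germ (f ⁻¹ᵁ (U ⊓ V)) x _ v') ?_
  show _ = f.stalkMap x (Y.presheaf.stalkSpecializes _ (Y.presheaf.germ (U ⊓ V) y hW b'))
  rw [TopCat.Presheaf.germ_stalkSpecializes_apply]
  exact (Scheme.Hom.germ_stalkMap_apply f (U ⊓ V) x _ b').symm

variable (y : Y) (S : Finset X) (hS : ∀ x ∈ S, f x = y)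

/-- All the natural maps at once. -/
noncomputable def fibAll :
    ((Coh.push f).obj M).presheaf.stalk y →+ ∀ x : S, M.presheaf.stalk (x : X) :=
  Pi.addMonoidHom fun x => fibHom f M (hS x.1 x.2)

/-- The value at a point of the fibre. -/
theorem fibAll_apply (m : ((Coh.push f).obj M).presheaf.stalk y) (x : S) :
    fibAll f M y S hS m x = fibHom f M (hS x.1 x.2) m := rfl

variable {y S}
  (hclosed : ∀ C : Set X, IsClosed C → IsClosed (⇑f '' C))
  (hsupp : ∀ x : X, f x = y → Nontrivial (M.presheaf.stalk x) → x ∈ S)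

include hclosed in
omit hS in
theorem exists_nhd {O : X.Opens} (hO : ∀ x, f x = y → x ∈ O) :
    ∃ V : Y.Opens, y ∈ V ∧ f ⁻¹ᵁ V ≤ O := by
  refine ⟨⟨(⇑f '' (O : Set X)ᶜ)ᶜ, (hclosed _ O.isOpen.isClosed_compl).isOpen_compl⟩, ?_, fun x hx => ?_⟩
  · rintro ⟨x, hx, he⟩
    exact hx (hO x he)
  · by_contra hc
    exact hx ⟨x, hc, rfl⟩

include hclosed hsupp in
theorem fibAll_injective : Function.Injective (fibAll f M y S hS) := by
  rw [injective_iff_map_eq_zero]
  intro m hm
  obtain ⟨V, hV, v, rfl⟩ := ((Coh.push f).obj M).presheaf.germ_exist m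
  let O : X.Opens := ⨆ W : {W : X.Opens // ∃ h : W ≤ f ⁻¹ᵁ V, M.presheaf.map (homOfLE h).op v = 0}, W.1
  have hmem : ∀ z (hz : z ∈ f ⁻¹ᵁ V), M.presheaf.germ (f ⁻¹ᵁ V) z hz v = 0 → z ∈ O := fun z hz h0 => by
    obtain ⟨W, hzW, i₁, i₂, hW⟩ := M.presheaf.germ_eq z hz hz v 0 (by rw [h0, map_zero])
    refine Opens.mem_iSup.2 ⟨⟨W, i₁.le, ?_⟩, hzW⟩
    rw [Subsingleton.elim (homOfLE i₁.le) i₁, hW, map_zero]
  obtain ⟨V', hyV', hV'⟩ := exists_nhd f hclosed (O := O) (y := y) fun x hx => by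
    have hz : x ∈ f ⁻¹ᵁ V := show f x ∈ V from hx ▸ hV
    refine hmem x hz ?_
    by_cases hn : Nontrivial (M.presheaf.stalk x)
    · exact (fibHom_germ f M (hS x (hsupp x hx hn)) V hV v).symm.trans
        (congrFun hm ⟨x, hsupp x hx hn⟩)
    · haveI := not_nontrivial_iff_subsingleton.1 hn
      exact Subsingleton.elim (α := M.presheaf.stalk x) _ _
  have hle : f ⁻¹ᵁ (V' ⊓ V) ≤ f ⁻¹ᵁ V := fun x hx => hx.2
  have hzero : M.presheaf.map (homOfLE hle).op v = 0 := by
    refine TopCat.Presheaf.section_ext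
      (show TopCat.Sheaf AddCommGrpCat.{u} X.toPresheafedSpace.carrier from ⟨M.presheaf, M.isSheaf⟩) _ _ _
      fun x hx => ?_
    refine (M.presheaf.germ_res_apply (homOfLE hle) x hx v).trans ?_
    rw [map_zero]
    obtain ⟨⟨W, h, hW⟩, hxW⟩ := Opens.mem_iSup.1 (hV' hx.1)
    rw [← M.presheaf.germ_res_apply (homOfLE h) x hxW v, hW, map_zero]
  rw [← ((Coh.push f).obj M).presheaf.germ_res_apply (homOfLE inf_le_right : V' ⊓ V ⟶ V) y ⟨hyV', hV⟩ v]
  exact (congrArg _ hzero).trans (map_zero _)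

variable (U : ∀ _ : S, X.Opens) (hU : ∀ x : S, (x : X) ∈ U x)
  (hdisj : ∀ x x' : S, x ≠ x' → ∀ z ∈ U x, z ∈ U x' → Subsingleton (M.presheaf.stalk z))
  (hT : IsClosed {z : X | Nontrivial (M.presheaf.stalk z)})

include hclosed hsupp hU hdisj hT in
theorem fibAll_surjective : Function.Surjective (fibAll f M y S hS) := by
  classical
  intro t
  choose W hW w hw using fun x : S => M.presheaf.germ_exist (t x)
  let A : Option S → X.Opens := fun i => i.elim ⟨_, hT.isOpen_compl⟩ fun x => U x ⊓ W x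
  let a : ∀ i : Option S, Γ(M, A i) := fun i =>
    match i with
    | none => 0
    | some x => M.presheaf.map (homOfLE (inf_le_right : U x ⊓ W x ≤ W x)).op (w x)
  obtain ⟨V, hyV, hV⟩ := exists_nhd f hclosed (y := y) (O := iSup A) fun x hx => by
    by_cases hn : Nontrivial (M.presheaf.stalk x)
    · exact Opens.mem_iSup.2 ⟨some ⟨x, hsupp x hx hn⟩, hU ⟨x, hsupp x hx hn⟩, hW ⟨x, hsupp x hx hn⟩⟩
    · exact Opens.mem_iSup.2 ⟨none, hn⟩
  let Fs : TopCat.Sheaf AddCommGrpCat.{u} X.toPresheafedSpace.carrier := ⟨M.presheaf, M.isSheaf⟩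
  obtain ⟨s, hs, -⟩ := TopCat.Sheaf.existsUnique_gluing' Fs (fun i => A i ⊓ f ⁻¹ᵁ V) (f ⁻¹ᵁ V)
    (fun i => homOfLE inf_le_right) (fun x hx => by
      obtain ⟨i, hi⟩ := Opens.mem_iSup.1 (hV hx)
      exact Opens.mem_iSup.2 ⟨i, hi, hx⟩)
    (fun i => M.presheaf.map (homOfLE (inf_le_left : A i ⊓ f ⁻¹ᵁ V ≤ A i)).op (a i)) (fun i j => by
      refine TopCat.Presheaf.section_ext Fs _ _ _ fun z hz => ?_
      rcases eq_or_ne i j with rfl | hij
      · rw [Subsingleton.elim (Opens.infLELeft _ _) (Opens.infLERight (A i ⊓ f ⁻¹ᵁ V) (A i ⊓ f ⁻¹ᵁ V))]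
      · have : Subsingleton (M.presheaf.stalk z) := by
          rcases i with _ | x
          · exact not_nontrivial_iff_subsingleton.1 hz.1.1
          rcases j with _ | x'
          · exact not_nontrivial_iff_subsingleton.1 hz.2.1
          exact hdisj x x' (fun e => hij (congrArg some e)) z hz.1.1.1 hz.2.1.1
        exact Subsingleton.elim (α := M.presheaf.stalk z) _ _)
  refine ⟨((Coh.push f).obj M).presheaf.germ V y hyV s, funext fun x => ?_⟩
  have hx : (x : X) ∈ A (some x) ⊓ f ⁻¹ᵁ V := ⟨⟨hU x, hW x⟩, show f x.1 ∈ V from (hS x.1 x.2).symm ▸ hyV⟩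
  rw [fibAll_apply, fibHom_germ]
  refine Eq.trans ?_ (hw x)
  refine ((M.presheaf.germ_res_apply (homOfLE inf_le_right) (x : X) hx s).symm.trans
    (congrArg _ (hs (some x)))).trans ?_
  exact (M.presheaf.germ_res_apply _ (x : X) hx _).trans (M.presheaf.germ_res_apply _ (x : X) _ (w x))

include hclosed hsupp hU hdisj hT in
theorem length_stalk_push :
    letI : ∀ x : S, Module (Y.presheaf.stalk y) (M.presheaf.stalk (x : X)) := fun x =>
      fibMod f M (hS x.1 x.2)
    Module.length (Y.presheaf.stalk y) (((Coh.push f).obj M).presheaf.stalk y) =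
      ∑ x : S, Module.length (Y.presheaf.stalk y) (M.presheaf.stalk (x : X)) := by
  letI : ∀ x : S, Module (Y.presheaf.stalk y) (M.presheaf.stalk (x : X)) := fun x =>
    fibMod f M (hS x.1 x.2)
  rw [← Module.length_pi_of_fintype]
  refine LinearEquiv.length_eq (LinearEquiv.ofBijective
    ({ toFun := fibAll f M y S hS
       map_add' := map_add _
       map_smul' := fun a m => funext fun x => fibHom_smul f M (hS x.1 x.2) a m } :
      ((Coh.push f).obj M).presheaf.stalk y →ₗ[Y.presheaf.stalk y] ∀ x : S, M.presheaf.stalk (x : X))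
    ⟨fibAll_injective f M hS hclosed hsupp, fibAll_surjective f M hS hclosed hsupp U hU hdisj hT⟩)

end Groth.Agent.Push83
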