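import Groth.Agent.Push83.Fibre
import Groth.Agent.CycLib.Push
import Groth.Agent.CycLib.Supp
import Groth.Agent.Symb83.Stalks

/-! Push-forward of the cycle of a coherent sheaf. -/

set_option autoImplicit false
set_option linter.style.haveILetI false

universe u

open AlgebraicGeometry CategoryTheory TopologicalSpace

namespace Groth.Agent.Push83

open Groth.Agent

variable {X Y : Scheme.{u}}

theorem exists_nhd_component [IsLocallyNoetherian X] {δ : X → ℤ} (hd : Cyc.IsDimFun X δ) {F : X.Modules}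
    (hF : Coh.IsCoh F) {k : ℤ} (hdim : ∀ x : X, Nontrivial (F.presheaf.stalk x) → δ x ≤ k) {x : X}
    (hx : Nontrivial (F.presheaf.stalk x)) (hk : δ x = k) :
    ∃ U : X.Opens, x ∈ U ∧ ∀ z ∈ U, Nontrivial (F.presheaf.stalk z) → x ⤳ z := by
  let T : Set X := {z | Nontrivial (F.presheaf.stalk z)}
  have hT : IsClosed T := CycLib.isClosed_nontrivial F hF
  haveI : QuasiSober ↥T := hT.isClosedEmbedding_subtypeVal.quasiSober
  let P : Set (irreducibleComponents ↥T) := {Z | x ∉ ((↑) '' (Z : Set ↥T) : Set X)}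
  have hcl : IsClosed (⋃ Z : P, ((↑) '' ((Z : irreducibleComponents ↥T) : Set ↥T) : Set X)) :=
    ((CycLib.locallyFinite_components hT).comp_injective Subtype.val_injective).isClosed_iUnion fun Z =>
      hT.isClosedEmbedding_subtypeVal.isClosedMap _
        (isClosed_of_mem_irreducibleComponents _ Z.1.2)
  refine ⟨⟨_, hcl.isOpen_compl⟩, fun hmem => ?_, fun z hz hzT => ?_⟩
  · obtain ⟨Z, hZ⟩ := Set.mem_iUnion.1 hmem
    exact Z.2 hZ
  · let c : irreducibleComponents ↥T :=
      ⟨irreducibleComponent (⟨z, hzT⟩ : ↥T), irreducibleComponent_mem_irreducibleComponents _⟩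
    have hxc : x ∈ ((↑) '' (c : Set ↥T) : Set X) := by
      by_contra hc
      exact hz (Set.mem_iUnion.2 ⟨⟨c, hc⟩, ⟨z, hzT⟩, mem_irreducibleComponent, rfl⟩)
    obtain ⟨w, hw, rfl⟩ := hxc
    obtain ⟨η, hη⟩ := QuasiSober.sober c.2.1 (isClosed_of_mem_irreducibleComponents _ c.2)
    have h1 : (η : X) = w.1 := CycLib.eq_of_delta_le hd ((hη.specializes hw).map continuous_subtype_val)
      ((hdim η.1 η.2).trans hk.ge)
    exact h1 ▸ (hη.specializes (mem_irreducibleComponent : (⟨z, hzT⟩ : ↥T) ∈ c.1)).map continuous_subtype_val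

theorem finite_fibre_supp (f : X ⟶ Y) [QuasiCompact f] [IsLocallyNoetherian X] {δX : X → ℤ} {δY : Y → ℤ}
    (hd : Cyc.IsDimFun X δX) (hδ : Cyc.DeltaCompat f δX δY) {F : X.Modules} (hF : Coh.IsCoh F) {k : ℤ}
    (hdim : ∀ x : X, Nontrivial (F.presheaf.stalk x) → δX x ≤ k) {y : Y} (hy : δY y = k) :
    {x : X | f x = y ∧ Nontrivial (F.presheaf.stalk x)}.Finite := by
  obtain ⟨V, hV, hyV, -⟩ := exists_isAffineOpen_mem_and_subset (x := y) (U := ⊤) trivial
  have hc : IsCompact (f ⁻¹' (V : Set Y)) := (quasiCompact_iff f).1 inferInstance V V.isOpen hV.isCompact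
  choose U hUo hxU hfin using fun x => Symb83.locallyFinite_gens hd (k := k - 1) (M := F)
    ⟨hF, fun z hz => (hdim z hz).trans (le_of_eq (sub_add_cancel k 1).symm)⟩ x
  obtain ⟨t, ht⟩ := hc.elim_finite_subcover U hUo fun x _ => Set.mem_iUnion.2 ⟨x, hxU x⟩
  refine (t.finite_toSet.biUnion fun x _ => hfin x).subset ?_
  rintro x ⟨rfl, hx⟩
  obtain ⟨z, hz, hxz⟩ := Set.mem_iUnion₂.1 (ht (show x ∈ f ⁻¹' (V : Set Y) from hyV))
  have h1 := CycLib.le_of_deltaCompat f hδ x
  have h2 := hdim x hx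
  exact Set.mem_biUnion hz ⟨hxz, by omega, hx⟩

theorem map_eq_sheafFun_push (δX : X → ℤ) (δY : Y → ℤ) (hX : Cyc.IsSetup X δX) (f : X ⟶ Y) [IsProper f]
    (hδ : Cyc.DeltaCompat f δX δY) (k : ℤ) (F : X.Modules) (hF : Coh.IsCoh F)
    (hdim : ∀ x : X, Nontrivial (F.presheaf.stalk x) → δX x ≤ k) (α : AlgebraicCycle X ℤ)
    (hα : ⇑α = Cyc.sheafFun δX k F) :
    ⇑(AlgebraicCycle.map f δX δY α) = Cyc.sheafFun δY k ((Coh.push f).obj F) := by
  classical
  haveI := hX.1
  have hd := hX.2.2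
  funext y
  rw [CycLib.map_apply']
  by_cases hy : δY y = k
  swap
  · rw [Cyc.sheafFun, if_neg hy]
    refine finsum_mem_eq_zero_of_forall_eq_zero fun x (hx : f x = y) => ?_
    rw [hα, Cyc.sheafFun, AlgebraicCycle.mapCoeff]
    split_ifs with h1 h2
    · exact absurd (hx ▸ h2 ▸ h1 : δY y = k) hy
    · simp
    all_goals simp
  have hfinS := finite_fibre_supp f hd hδ hF hdim hy
  let S : Finset X := hfinS.toFinset
  have hmemS : ∀ x, x ∈ S ↔ f x = y ∧ Nontrivial (F.presheaf.stalk x) := fun x => hfinS.mem_toFinset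
  have hS : ∀ x ∈ S, f x = y := fun x hx => ((hmemS x).1 hx).1
  have hδk : ∀ x ∈ S, δX x = k := fun x hx => by
    have h1 := CycLib.le_of_deltaCompat f hδ x
    have h2 := hdim x ((hmemS x).1 hx).2
    rw [hS x hx] at h1
    omega
  have hfinr : ∀ x ∈ S, (f.residueFieldMap x).hom.Finite := fun x hx =>
    finite_residueFieldMap f hδ (by rw [hS x hx, hδk x hx, hy])
  choose U hU hUT using fun x : S =>
    exists_nhd_component hd hF hdim ((hmemS x.1).1 x.2).2 (hδk x.1 x.2)
  -- shrink the neighbourhoods so that they avoid the other closures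
  let U' : S → X.Opens := fun x => U x ⊓ ⟨(⋃ x' ∈ (Finset.univ.erase x : Finset S), closure {(x' : X)})ᶜ,
    (Set.Finite.isClosed_biUnion (Finset.finite_toSet _) fun _ _ => isClosed_closure).isOpen_compl⟩
  have hU' : ∀ x : S, (x : X) ∈ U' x := fun x => by
    refine ⟨hU x, fun hmem => ?_⟩
    obtain ⟨x', hx', hcl⟩ := Set.mem_iUnion₂.1 hmem
    exact (Finset.mem_erase.1 hx').1 (Subtype.ext (CycLib.eq_of_delta_le hd (specializes_iff_mem_closure.2 hcl)
      (by rw [hδk _ x'.2, hδk _ x.2])))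
  have hdisj : ∀ x x' : S, x ≠ x' → ∀ z ∈ U' x, z ∈ U' x' → Subsingleton (F.presheaf.stalk z) :=
    fun x x' hne z hz hz' => not_nontrivial_iff_subsingleton.1 fun hn =>
      hz.2 (Set.mem_iUnion₂.2 ⟨x', Finset.mem_erase.2 ⟨hne.symm, Finset.mem_univ _⟩,
        specializes_iff_mem_closure.1 (hUT x' z hz'.1 hn)⟩)
  have hlen := length_stalk_push f F hS (fun C hC => f.isClosedMap C hC)
    (fun x hx hn => (hmemS x).2 ⟨hx, hn⟩) U' hU' hdisj (CycLib.isClosed_nontrivial F hF)
  have hlt : ∀ x ∈ S, Module.length (X.presheaf.stalk x) (F.presheaf.stalk x) ≠ ⊤ := fun x hx =>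
    (CycLib.length_stalk_lt_top F hF fun z hz hzx =>
      CycLib.eq_of_delta_le hd hzx ((hdim z hz).trans (hδk x hx).ge)).ne
  rw [Cyc.sheafFun, if_pos hy, hlen]
  simp only [length_fibMod f F (hS _ (Subtype.prop _)) (hfinr _ (Subtype.prop _))]
  rw [Finset.sum_coe_sort S fun x =>
    Module.length (X.presheaf.stalk x) (F.presheaf.stalk x) * (f.residueDegree x : ℕ∞),
    ENat.toNat_sum (f := fun x => Module.length (X.presheaf.stalk x) (F.presheaf.stalk x) * (f.residueDegree x : ℕ∞))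
      fun x hx => (WithTop.mul_lt_top (hlt x hx).lt_top (ENat.coe_ne_top (f.residueDegree x)).lt_top).ne, Nat.cast_sum,
    finsum_mem_eq_sum_of_inter_support_eq (t := S) _ ?_]
  · refine Finset.sum_congr rfl fun x hx => ?_
    rw [hα, Cyc.sheafFun, if_pos (hδk x hx), AlgebraicCycle.mapCoeff,
      if_pos (show δX x = δY (f.base x) by rw [hδk x hx, show f.base x = y from hS x hx, hy]),
      ENat.toNat_mul, ENat.toNat_coe, Nat.cast_mul]
  · ext x
    simp only [Set.mem_inter_iff, Set.mem_preimage, Set.mem_singleton_iff, Function.mem_support,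
      Finset.mem_coe]
    refine ⟨fun ⟨hx, hne⟩ => ⟨(hmemS x).2 ⟨hx, ?_⟩, hne⟩, fun ⟨hx, hne⟩ => ⟨hS x hx, hne⟩⟩
    by_contra hn
    haveI := not_nontrivial_iff_subsingleton.1 hn
    apply hne
    rw [hα, Cyc.sheafFun, Module.length_eq_zero]
    simp

end Groth.Agent.Push83
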