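import Groth.Agent.CycLib.Finite
import Groth.Agent.CycLib.LFT
import Groth.Prelude.Def_Cyc
import Mathlib.RingTheory.LocalRing.Length
import Mathlib.AlgebraicGeometry.AlgebraicCycle.Basic

/-! Lengths of stalks over the local ring of the image point. -/

set_option autoImplicit false
set_option linter.style.haveILetI false

universe u

open AlgebraicGeometry CategoryTheory

namespace Groth.Agent.Push83

variable {X Y : Scheme.{u}} (f : X ⟶ Y)

/-- The map of local rings at a point over `y`. -/
noncomputable def fibMap {x : X} {y : Y} (h : f x = y) : Y.presheaf.stalk y →+* X.presheaf.stalk x :=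
  (Y.presheaf.stalkSpecializes (specializes_of_eq h) ≫ f.stalkMap x).hom

theorem fibMap_rfl (x : X) : fibMap f (rfl : f x = f x) = (f.stalkMap x).hom :=
  RingHom.ext fun a => congrArg (f.stalkMap x).hom
    (congrArg (fun φ => φ a) (TopCat.Presheaf.stalkSpecializes_refl (C := CommRingCat) Y.presheaf (f x)))

/-- The stalk of a module as a module over the local ring of the image. -/
noncomputable abbrev fibMod (M : X.Modules) {x : X} {y : Y} (h : f x = y) :
    Module (Y.presheaf.stalk y) (M.presheaf.stalk x) :=
  Module.compHom _ (fibMap f h)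

theorem length_fibMod (M : X.Modules) {x : X} {y : Y} (h : f x = y)
    (hfin : (f.residueFieldMap x).hom.Finite) :
    letI := fibMod f M h
    Module.length (Y.presheaf.stalk y) (M.presheaf.stalk x) =
      Module.length (X.presheaf.stalk x) (M.presheaf.stalk x) * (f.residueDegree x : ℕ∞) := by
  subst h
  letI := fibMod f M (rfl : f x = f x)
  letI := (f.stalkMap x).hom.toAlgebra
  haveI : IsLocalHom (algebraMap (Y.presheaf.stalk (f x)) (X.presheaf.stalk x)) :=
    inferInstanceAs (IsLocalHom (f.stalkMap x).hom)
  haveI : IsScalarTower (Y.presheaf.stalk (f x)) (X.presheaf.stalk x) (M.presheaf.stalk x) :=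
    IsScalarTower.of_algebraMap_smul fun a m => by
      show (f.stalkMap x).hom a • m = fibMap f rfl a • m
      rw [fibMap_rfl]
  rw [IsLocalRing.length_restrictScalars (Y.presheaf.stalk (f x)) (X.presheaf.stalk x) (M.presheaf.stalk x)]
  congr 1
  let a1 : Algebra (IsLocalRing.ResidueField (Y.presheaf.stalk (f x)))
      (IsLocalRing.ResidueField (X.presheaf.stalk x)) := (f.residueFieldMap x).hom.toAlgebra
  have he : IsLocalRing.ResidueField.instModule (R := Y.presheaf.stalk (f x)) (S := X.presheaf.stalk x) =
      a1.toModule := Module.ext' _ _ fun r m => by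
    obtain ⟨r, rfl⟩ := IsLocalRing.residue_surjective (R := Y.presheaf.stalk (f x)) r
    obtain ⟨m, rfl⟩ := IsLocalRing.residue_surjective (R := X.presheaf.stalk x) m
    rfl
  rw [he]
  letI := a1.toModule
  haveI : Module.Finite (IsLocalRing.ResidueField (Y.presheaf.stalk (f x)))
      (IsLocalRing.ResidueField (X.presheaf.stalk x)) := hfin
  rw [Module.length_eq_finrank]
  rfl

theorem finite_residueFieldMap [LocallyOfFiniteType f] {δX : X → ℤ} {δY : Y → ℤ}
    (hδ : Cyc.DeltaCompat f δX δY) {x : X} (he : δX x = δY (f x)) : (f.residueFieldMap x).hom.Finite :=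
  CycLib.finite_residueFieldMap_of_rd_eq_zero f x (by
    have := CycLib.deltaCompat_eq f hδ x
    omega)

end Groth.Agent.Push83
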